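import Cfsg.Agent.Classical.Misc.SLTwoTori
import Cfsg.Agent.WeakClosureJOne.JOne

/-!
In `PSL(2, q)` and in `J₁` cyclic subgroups of equal prime power order with nontrivial intersection are equal.
-/

set_option autoImplicit false
set_option linter.unusedSectionVars false
set_option linter.style.haveILetI false

namespace Cfsg.Lib.TICyclic

open Subgroup Matrix
open scoped MatrixGroups

universe u

/-- Elements of equal prime power order with a common nontrivial power generate the same subgroup. -/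
def CommonPower (G : Type u) [Group G] : Prop :=
  ∀ x y u : G, IsPrimePow (orderOf x) → orderOf y = orderOf x → u ∈ zpowers x → u ∈ zpowers y → u ≠ 1 →
    zpowers x = zpowers y

theorem CommonPower.ti {G : Type u} [Group G] [Finite G] (h : CommonPower G) (H : Subgroup G) (hc : IsCyclic H)
    (hp : IsPrimePow (Nat.card H)) (g : G) :
    H.map (MulAut.conj g).toMonoidHom = H ∨ H.map (MulAut.conj g).toMonoidHom ⊓ H = ⊥ := by
  by_cases hb : H.map (MulAut.conj g).toMonoidHom ⊓ H = ⊥
  · exact Or.inr hb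
  obtain ⟨u, hu, hu1⟩ := (Subgroup.bot_or_exists_ne_one _).resolve_left hb
  obtain ⟨x, rfl⟩ := (Subgroup.isCyclic_iff_exists_zpowers_eq_top H).1 hc
  rw [Nat.card_zpowers] at hp
  left
  rw [MonoidHom.map_zpowers] at hu ⊢
  exact (h x _ u hp (MulEquiv.orderOf_eq (MulAut.conj g) x) hu.2 hu.1 hu1).symm

theorem CommonPower.of_equiv {G H : Type*} [Group G] [Group H] (e : G ≃* H) (h : CommonPower H) : CommonPower G := by
  intro x y u hx hy hux huy hu
  have hmap : ∀ z w : G, w ∈ zpowers z → e w ∈ zpowers (e z) := fun z w hw => by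
    obtain ⟨k, rfl⟩ := mem_zpowers_iff.1 hw
    exact mem_zpowers_iff.2 ⟨k, (map_zpow e z k).symm⟩
  have h1 := h (e x) (e y) (e u) (by rwa [MulEquiv.orderOf_eq]) (by rw [MulEquiv.orderOf_eq, MulEquiv.orderOf_eq, hy])
    (hmap x u hux) (hmap y u huy) (fun e' => hu (e.injective (e'.trans (map_one e).symm)))
  refine le_antisymm (zpowers_le.2 ?_) (zpowers_le.2 ?_)
  · obtain ⟨k, hk⟩ := mem_zpowers_iff.1 (h1 ▸ mem_zpowers (e x))
    exact mem_zpowers_iff.2 ⟨k, e.injective (by rw [map_zpow, hk])⟩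
  · obtain ⟨k, hk⟩ := mem_zpowers_iff.1 (h1.symm ▸ mem_zpowers (e y))
    exact mem_zpowers_iff.2 ⟨k, e.injective (by rw [map_zpow, hk])⟩

theorem zpowers_eq_of_prime {G : Type u} [Group G] [Finite G] {x u : G} (hx : (orderOf x).Prime)
    (hu : u ∈ zpowers x) (hu1 : u ≠ 1) : zpowers x = zpowers u := by
  refine (Subgroup.eq_of_le_of_card_ge (zpowers_le.2 hu) ?_).symm
  rw [Nat.card_zpowers, Nat.card_zpowers]
  rcases hx.eq_one_or_self_of_dvd _ (orderOf_dvd_of_mem_zpowers hu) with r | r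
  · exact absurd (orderOf_eq_one_iff.1 r) hu1
  · omega

theorem commonPower_jOne {L : Type u} [Group L] (h : Cfsg.Spor.IsoJ1 L) : CommonPower L := by
  haveI := Cfsg.Lib.WeakJOne.jOne_finite h
  intro x y u hx hy hux huy hu
  obtain ⟨e⟩ := h
  have h1 := Cfsg.Lib.Janko.orderOf_mem (e x)
  rw [MulEquiv.orderOf_eq] at h1
  have hp : (orderOf x).Prime := by
    have key : ∀ n ∈ [1, 2, 3, 5, 6, 7, 10, 11, 15, 19], n.Prime ∨ n = 1 ∨ n = 6 ∨ n = 10 ∨ n = 15 := by decide
    have two : ∀ a b : ℕ, a.Prime → b.Prime → a ≠ b → a ∣ orderOf x → b ∣ orderOf x → False := by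
      intro a b ha hb hab h1 h2
      obtain ⟨p, -, hp⟩ := (isPrimePow_iff_unique_prime_dvd.1 hx)
      exact hab ((hp a ⟨ha, h1⟩).trans (hp b ⟨hb, h2⟩).symm)
    rcases key _ h1 with r | r | r | r | r
    · exact r
    · exact absurd r hx.ne_one
    · exact (two 2 3 (by norm_num) (by norm_num) (by norm_num) (by rw [r]; norm_num) (by rw [r]; norm_num)).elim
    · exact (two 2 5 (by norm_num) (by norm_num) (by norm_num) (by rw [r]; norm_num) (by rw [r]; norm_num)).elim
    · exact (two 3 5 (by norm_num) (by norm_num) (by norm_num) (by rw [r]; norm_num) (by rw [r]; norm_num)).elim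
  rw [zpowers_eq_of_prime hp hux hu, zpowers_eq_of_prime (hy ▸ hp) huy hu]

variable {F : Type} [Field F]

/-- The matrices commuting with a matrix which is not scalar commute. -/
theorem commute_of_commute {U X Y : Matrix (Fin 2) (Fin 2) F}
    (hU : ¬ (U 0 1 = 0 ∧ U 1 0 = 0 ∧ U 0 0 = U 1 1)) (hX : X * U = U * X) (hY : Y * U = U * Y) : X * Y = Y * X := by
  have eX := fun i j => congrFun (congrFun hX i) j
  have eY := fun i j => congrFun (congrFun hY i) j
  have x00 := eX 0 0
  have x01 := eX 0 1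
  have x10 := eX 1 0
  have y00 := eY 0 0
  have y01 := eY 0 1
  have y10 := eY 1 0
  simp only [Matrix.mul_apply, Fin.sum_univ_two] at x00 x01 x10 y00 y01 y10
  have k1 : (X 0 1 * U 1 0 - U 0 1 * X 1 0 = 0) ∧ (Y 0 1 * U 1 0 - U 0 1 * Y 1 0 = 0) :=
    ⟨by linear_combination x00, by linear_combination y00⟩
  have k2 : (U 0 1 * (X 0 0 - X 1 1) - X 0 1 * (U 0 0 - U 1 1) = 0) ∧
      (U 0 1 * (Y 0 0 - Y 1 1) - Y 0 1 * (U 0 0 - U 1 1) = 0) :=
    ⟨by linear_combination x01, by linear_combination y01⟩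
  have k3 : (U 1 0 * (X 0 0 - X 1 1) - X 1 0 * (U 0 0 - U 1 1) = 0) ∧
      (U 1 0 * (Y 0 0 - Y 1 1) - Y 1 0 * (U 0 0 - U 1 1) = 0) :=
    ⟨by linear_combination -x10, by linear_combination -y10⟩
  obtain ⟨k1, k1'⟩ := k1
  obtain ⟨k2, k2'⟩ := k2
  obtain ⟨k3, k3'⟩ := k3
  -- the cross products vanish
  have c : (X 0 1 * Y 1 0 - Y 0 1 * X 1 0 = 0) ∧
      ((X 0 0 - X 1 1) * Y 0 1 - (Y 0 0 - Y 1 1) * X 0 1 = 0) ∧
      ((X 0 0 - X 1 1) * Y 1 0 - (Y 0 0 - Y 1 1) * X 1 0 = 0) := by
    by_cases hb : U 0 1 = 0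
    · by_cases hc : U 1 0 = 0
      · have ha : U 0 0 - U 1 1 ≠ 0 := sub_ne_zero.2 fun e => hU ⟨hb, hc, e⟩
        have e1 : X 0 1 = 0 := by
          refine (mul_eq_zero.1 ?_).resolve_right ha
          rw [hb] at k2; linear_combination -k2
        have e2 : X 1 0 = 0 := by
          refine (mul_eq_zero.1 ?_).resolve_right ha
          rw [hc] at k3; linear_combination -k3
        have e3 : Y 0 1 = 0 := by
          refine (mul_eq_zero.1 ?_).resolve_right ha
          rw [hb] at k2'; linear_combination -k2'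
        have e4 : Y 1 0 = 0 := by
          refine (mul_eq_zero.1 ?_).resolve_right ha
          rw [hc] at k3'; linear_combination -k3'
        simp [e1, e2, e3, e4]
      · refine ⟨(mul_eq_zero.1 ?_).resolve_left hc, (mul_eq_zero.1 ?_).resolve_left hc,
          (mul_eq_zero.1 ?_).resolve_left hc⟩
        · linear_combination Y 1 0 * k1 - X 1 0 * k1'
        · linear_combination -(Y 0 0 - Y 1 1) * k1 + (X 0 0 - X 1 1) * k1' + U 0 1 * (X 0 0 - X 1 1) * 0
              + U 0 1 * ((mul_eq_zero.1 (show U 1 0 * ((X 0 0 - X 1 1) * Y 1 0 - (Y 0 0 - Y 1 1) * X 1 0) = 0 by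
                linear_combination Y 1 0 * k3 - X 1 0 * k3')).resolve_left hc)
        · linear_combination Y 1 0 * k3 - X 1 0 * k3'
    · refine ⟨(mul_eq_zero.1 ?_).resolve_left hb, (mul_eq_zero.1 ?_).resolve_left hb,
        (mul_eq_zero.1 ?_).resolve_left hb⟩
      · linear_combination Y 0 1 * k1 - X 0 1 * k1'
      · linear_combination Y 0 1 * k2 - X 0 1 * k2'
      · linear_combination (Y 0 0 - Y 1 1) * k1 - (X 0 0 - X 1 1) * k1'
          + U 1 0 * ((mul_eq_zero.1 (show U 0 1 * ((X 0 0 - X 1 1) * Y 0 1 - (Y 0 0 - Y 1 1) * X 0 1) = 0 by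
            linear_combination Y 0 1 * k2 - X 0 1 * k2')).resolve_left hb)
  obtain ⟨c1, c2, c3⟩ := c
  ext i j
  fin_cases i <;> fin_cases j <;> simp [Matrix.mul_apply, Fin.sum_univ_two]
  · linear_combination c1
  · linear_combination c2
  · linear_combination -c3
  · linear_combination -c1

/-- A nilpotent 2 × 2 matrix squares to zero. -/
theorem sq_zero_of_nilpotent {N : Matrix (Fin 2) (Fin 2) F} {n : ℕ} (h : N ^ n = 0) (hd : N.det = 0) : N * N = 0 := by
  have hN : N * N = (N 0 0 + N 1 1) • N := by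
    rw [Matrix.det_fin_two] at hd
    ext i j
    fin_cases i <;> fin_cases j <;> simp [Matrix.mul_apply, Fin.sum_univ_two, Matrix.smul_apply]
    · linear_combination -hd
    · ring
    · ring
    · linear_combination -hd
  by_cases ht : N 0 0 + N 1 1 = 0
  · rw [hN, ht, zero_smul]
  have hp : ∀ m, N ^ (m + 1) = (N 0 0 + N 1 1) ^ m • N := by
    intro m
    induction m with
    | zero => simp
    | succ m ih => rw [pow_succ, ih, smul_mul_assoc, hN, smul_smul, ← pow_succ]
  rcases n with _ | n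
  · rw [pow_zero] at h; exact absurd h one_ne_zero
  · rw [hp] at h
    rw [(smul_eq_zero.1 h).resolve_left (pow_ne_zero n ht), mul_zero]

variable [Finite F]

/-- An element of `SL(2, q)` of order a power of the characteristic has order at most the characteristic. -/
theorem sl_pow_char (p : ℕ) [Fact p.Prime] [CharP F p] {X : SL(2, F)} {n : ℕ} (h : X ^ p ^ n = 1) : X ^ p = 1 := by
  set W : Matrix (Fin 2) (Fin 2) F := (X : Matrix (Fin 2) (Fin 2) F) with hW
  have hW1 : W ^ p ^ n = 1 := by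
    have h1 := congrArg (fun Z : SL(2, F) => (Z : Matrix (Fin 2) (Fin 2) F)) h
    simp only [Matrix.SpecialLinearGroup.coe_pow, Matrix.SpecialLinearGroup.coe_one] at h1
    exact h1
  have hN : (W - 1) ^ p ^ n = 0 := by
    rw [sub_pow_char_pow_of_commute _ _ (Commute.one_right _), hW1, one_pow, sub_self]
  have hd : (W - 1).det = 0 := by
    have h1 := congrArg Matrix.det hN
    rw [Matrix.det_pow, Matrix.det_zero] at h1
    exact eq_zero_of_pow_eq_zero h1
  have h2 := sq_zero_of_nilpotent hN hd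
  have hp2 := (Fact.out : p.Prime).two_le
  apply Subtype.ext
  rw [Matrix.SpecialLinearGroup.coe_pow, Matrix.SpecialLinearGroup.coe_one, ← hW,
    show W = 1 + (W - 1) by abel, add_pow_char_of_commute p (Commute.one_left _), one_pow,
    show p = 2 + (p - 2) by omega, pow_add, pow_two, h2, zero_mul, add_zero]

theorem commonPower_psl : CommonPower (Matrix.ProjectiveSpecialLinearGroup (Fin 2) F) := by
  intro x y u hx hy hux huy hu
  obtain ⟨p, hp⟩ := CharP.exists F
  haveI : Fact p.Prime := ⟨CharP.char_is_prime F p⟩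
  obtain ⟨r, k, hr, hk, hrk⟩ := hx
  have hr' : r.Prime := Nat.prime_iff.2 hr
  set Z := Subgroup.center SL(2, F) with hZ
  obtain ⟨X, rfl⟩ := QuotientGroup.mk'_surjective Z x
  obtain ⟨Y, rfl⟩ := QuotientGroup.mk'_surjective Z y
  set π := QuotientGroup.mk' Z
  have hzsq : ∀ z ∈ Z, z * z = 1 := by
    intro z hz
    obtain ⟨a, ha, hz'⟩ := Matrix.SpecialLinearGroup.mem_center_iff.1 hz
    apply Subtype.ext
    rw [Matrix.SpecialLinearGroup.coe_mul, Matrix.SpecialLinearGroup.coe_one, ← hz', ← map_mul, ← pow_two,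
      ← Fintype.card_fin 2, ha, map_one]
  have hzchar : p = 2 → ∀ z ∈ Z, z = 1 := by
    rintro rfl z hz
    obtain ⟨a, ha, hz'⟩ := Matrix.SpecialLinearGroup.mem_center_iff.1 hz
    apply Subtype.ext
    rw [Matrix.SpecialLinearGroup.coe_one, ← hz', ← map_one (Matrix.scalar (Fin 2))]
    congr 1
    rw [Fintype.card_fin] at ha
    have h0 : (a - 1) ^ 2 = 0 := by
      have h2 : (2 : F) = 0 := by exact_mod_cast CharP.cast_eq_zero F 2
      linear_combination ha + (1 - a) * h2
    exact sub_eq_zero.1 (eq_zero_of_pow_eq_zero h0)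
  by_cases hrp : r = p
  · subst hrp
    have hord : ∀ W : SL(2, F), orderOf (π W) = r ^ k → (orderOf (π W)).Prime := by
      intro W hW
      have h1 : π (W ^ r ^ k) = 1 := by rw [map_pow, ← hW, pow_orderOf_eq_one]
      have hmem : W ^ r ^ k ∈ Z := (QuotientGroup.eq_one_iff _).1 h1
      have h2 : π W ^ r = 1 := by
        by_cases hr2 : r = 2
        · have h3 := sl_pow_char r (hzchar hr2 _ hmem)
          rw [← map_pow, h3, map_one]
        · have h3 := sl_pow_char r (X := W * W) (n := k) (by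
            rw [(Commute.refl W).mul_pow]; exact hzsq _ hmem)
          have h4 : π W ^ (2 * r) = 1 := by
            rw [pow_mul, pow_two, ← map_mul, ← map_pow, h3, map_one]
          refine orderOf_dvd_iff_pow_eq_one.1 ?_
          have hc : Nat.Coprime (r ^ k) 2 := ((Nat.coprime_primes hr' Nat.prime_two).2 hr2).pow_left k
          rw [hW]
          exact hc.dvd_of_dvd_mul_left (hW ▸ orderOf_dvd_of_pow_eq_one h4)
      rcases hr'.eq_one_or_self_of_dvd _ (orderOf_dvd_of_pow_eq_one h2) with e | e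
      · rw [hW] at e
        exact absurd e (Nat.one_lt_pow hk.ne' hr'.one_lt).ne'
      · rw [e]; exact hr'
    rw [zpowers_eq_of_prime (hord X hrk.symm) hux hu, zpowers_eq_of_prime (hord Y (hy.trans hrk.symm)) huy hu]
  -- semisimple
  obtain ⟨i, hi⟩ := mem_zpowers_iff.1 hux
  obtain ⟨j, hj⟩ := mem_zpowers_iff.1 huy
  set U := X ^ i with hU
  have hUu : π U = u := by rw [hU, map_zpow, hi]
  have hzc : U⁻¹ * Y ^ j ∈ Z := (QuotientGroup.eq_one_iff _).1 (by
    show π (U⁻¹ * Y ^ j) = 1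
    rw [map_mul, map_inv, hUu, map_zpow, hj, inv_mul_cancel])
  have hYU : Commute Y U := by
    have h1 : U = Y ^ j * (U⁻¹ * Y ^ j)⁻¹ := by group
    rw [h1]
    exact ((Commute.refl Y).zpow_right j).mul_right (mem_center_iff.1 (inv_mem hzc) Y)
  have hXU : Commute X U := (Commute.refl X).zpow_right i
  have hns : ¬ ((U : Matrix (Fin 2) (Fin 2) F) 0 1 = 0 ∧ (U : Matrix (Fin 2) (Fin 2) F) 1 0 = 0 ∧
      (U : Matrix (Fin 2) (Fin 2) F) 0 0 = (U : Matrix (Fin 2) (Fin 2) F) 1 1) := by
    rintro ⟨h1, h2, h3⟩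
    refine hu ?_
    rw [← hUu]
    refine (QuotientGroup.eq_one_iff _).2 (mem_center_iff.2 fun g => Subtype.ext ?_)
    rw [Matrix.SpecialLinearGroup.coe_mul, Matrix.SpecialLinearGroup.coe_mul]
    ext a b
    fin_cases a <;> fin_cases b <;> simp [Matrix.mul_apply, Fin.sum_univ_two, h1, h2, h3] <;> ring
  have hXY : Commute X Y := by
    refine Subtype.ext ?_
    rw [Matrix.SpecialLinearGroup.coe_mul, Matrix.SpecialLinearGroup.coe_mul]
    refine commute_of_commute hns ?_ ?_
    · rw [← Matrix.SpecialLinearGroup.coe_mul, ← Matrix.SpecialLinearGroup.coe_mul, hXU.eq]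
    · rw [← Matrix.SpecialLinearGroup.coe_mul, ← Matrix.SpecialLinearGroup.coe_mul, hYU.eq]
  set A := Subgroup.closure ({X, Y} : Set SL(2, F)) with hA
  haveI : IsMulCommutative A := Subgroup.isMulCommutative_closure (by
    rintro a (rfl | rfl) b (rfl | rfl) <;> first | rfl | exact hXY | exact hXY.symm)
  have hab : ∀ a ∈ A, ∀ b ∈ A, a * b = b * a := fun a ha b hb =>
    congrArg Subtype.val (mul_comm' (⟨a, ha⟩ : A) ⟨b, hb⟩)
  have hm : ∀ W, orderOf (π W) = r ^ k → W ^ (r ^ k * 2) = 1 := fun W hW => by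
    have h1 : W ^ r ^ k ∈ Z := (QuotientGroup.eq_one_iff _).1 (show π (W ^ r ^ k) = 1 by
      rw [map_pow, ← hW, pow_orderOf_eq_one])
    rw [pow_mul, pow_two, hzsq _ h1]
  have hall : ∀ a ∈ A, a ^ (r ^ k * 2) = 1 ∧ (p = 2 → a ^ r ^ k = 1) := by
    intro a ha
    induction ha using Subgroup.closure_induction with
    | mem b hb =>
      have hb' : orderOf (π b) = r ^ k := by
        rcases hb with rfl | rfl
        · exact hrk.symm
        · exact hy.trans hrk.symm
      refine ⟨hm b hb', fun h2 => hzchar h2 _ ((QuotientGroup.eq_one_iff _).1 (show π (b ^ r ^ k) = 1 by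
        rw [map_pow, ← hb', pow_orderOf_eq_one]))⟩
    | one => exact ⟨one_pow _, fun _ => one_pow _⟩
    | mul b c hb hc ihb ihc =>
      have e : Commute b c := hab b hb c hc
      exact ⟨by rw [e.mul_pow, ihb.1, ihc.1, one_mul], fun h2 => by rw [e.mul_pow, ihb.2 h2, ihc.2 h2, one_mul]⟩
    | inv b _ ih => exact ⟨by rw [inv_pow, ih.1, inv_one], fun h2 => by rw [inv_pow, ih.2 h2, inv_one]⟩
  have hcop : ∀ a ∈ A, Nat.Coprime (orderOf a) p := by
    intro a ha
    have hrp' : Nat.Coprime (r ^ k) p := ((Nat.coprime_primes hr' Fact.out).2 hrp).pow_left k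
    by_cases h2 : p = 2
    · exact Nat.Coprime.coprime_dvd_left (orderOf_dvd_of_pow_eq_one ((hall a ha).2 h2)) hrp'
    · exact Nat.Coprime.coprime_dvd_left (orderOf_dvd_of_pow_eq_one (hall a ha).1)
        (Nat.Coprime.mul_left hrp' ((Nat.coprime_primes Nat.prime_two Fact.out).2 (Ne.symm h2)))
  haveI := Cfsg.Lib.Classical.SLTwoTori.isCyclic_of_comm p A hab hcop
  haveI : IsCyclic ↥(A.map π) := isCyclic_of_surjective (π.subgroupMap A) (π.subgroupMap_surjective A)
  have hX : zpowers (π X) ≤ A.map π := zpowers_le.2 ⟨X, Subgroup.subset_closure (by simp), rfl⟩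
  have hY : zpowers (π Y) ≤ A.map π := zpowers_le.2 ⟨Y, Subgroup.subset_closure (by simp), rfl⟩
  classical
  letI : Fintype ↥(A.map π) := Fintype.ofFinite _
  set B := A.map π
  set n := r ^ k with hn
  have hsub : ∀ W : Matrix.ProjectiveSpecialLinearGroup (Fin 2) F, zpowers W ≤ B → orderOf W = n →
      (Finset.univ.filter fun b : B => (b : Matrix.ProjectiveSpecialLinearGroup (Fin 2) F) ∈ zpowers W) =
        Finset.univ.filter fun b : B => b ^ n = 1 := by
    intro W hW hWn
    refine Finset.eq_of_subset_of_card_le (fun b hb => ?_) ?_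
    · rw [Finset.mem_filter] at hb ⊢
      refine ⟨hb.1, Subtype.ext ?_⟩
      rw [SubmonoidClass.coe_pow, OneMemClass.coe_one, ← orderOf_dvd_iff_pow_eq_one, ← hWn]
      exact orderOf_dvd_of_mem_zpowers hb.2
    · refine (IsCyclic.card_pow_eq_one_le (α := ↥B) (by rw [hn]; exact pow_pos hr'.pos k)).trans ?_
      rw [← Fintype.card_subtype, ← Nat.card_eq_fintype_card, ← hWn, ← Nat.card_zpowers,
        ← Nat.card_congr (subgroupOfEquivOfLe hW).toEquiv]
      exact le_rfl
  have h2 := (hsub _ hX hrk.symm).trans (hsub _ hY (hy.trans hrk.symm)).symm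
  ext w
  refine ⟨fun hw => ?_, fun hw => ?_⟩
  · have h3 := (Finset.ext_iff.1 h2 (⟨w, hX hw⟩ : B)).1 (Finset.mem_filter.2 ⟨Finset.mem_univ _, hw⟩)
    exact (Finset.mem_filter.1 h3).2
  · have h3 := (Finset.ext_iff.1 h2 (⟨w, hY hw⟩ : B)).2 (Finset.mem_filter.2 ⟨Finset.mem_univ _, hw⟩)
    exact (Finset.mem_filter.1 h3).2

end Cfsg.Lib.TICyclic
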