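import Cfsg.Agent.TICyclic.Kill.Main
import Cfsg.Agent.TICyclic.Fwd.One
import Cfsg.Agent.TICyclic.Converse
import Cfsg.Agent.GWDihedral.Main
import Cfsg.Agent.Walter.Main
import Cfsg.Agent.SylowEight.Main
import Cfsg.Agent.SylowAbelian.Product
import Cfsg.Agent.Ree.Field.Close
import Cfsg.Agent.Ree.Three.Instance
import Cfsg.Agent.S1644

/-!
The simple groups in which all cyclic subgroups of prime power order are TI.
-/

set_option autoImplicit false
set_option linter.unusedSectionVars false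
set_option linter.style.haveILetI false

namespace Cfsg.Lib.TICyclic

open Subgroup

universe u

/-- All cyclic subgroups of prime power order are TI. -/
def TI (G : Type u) [Group G] : Prop :=
  ∀ H : Subgroup G, IsCyclic H → IsPrimePow (Nat.card H) →
    ∀ g : G, H.map (MulAut.conj g).toMonoidHom = H ∨ H.map (MulAut.conj g).toMonoidHom ⊓ H = ⊥

variable {G : Type u} [Group G] [Finite G]

theorem TI.norm (h : TI G) {p : ℕ} (hp : p.Prime) {x u g : G} (hx : ∃ k, orderOf x = p ^ k)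
    (hu : u ∈ zpowers x) (hu1 : u ≠ 1) (hg : g * u * g⁻¹ = u) : g * x * g⁻¹ ∈ zpowers x := by
  obtain ⟨k, hk⟩ := hx
  have hk0 : k ≠ 0 := by
    rintro rfl
    rw [pow_zero, orderOf_eq_one_iff] at hk
    subst hk
    rw [zpowers_one_eq_bot, mem_bot] at hu
    exact hu1 hu
  rcases h (zpowers x) inferInstance (by
      rw [Nat.card_zpowers, hk]
      exact hp.isPrimePow.pow hk0) g with e | e
  · exact e ▸ ⟨x, mem_zpowers x, rfl⟩
  · refine absurd ?_ hu1
    rw [← mem_bot, ← e]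
    exact ⟨⟨u, hu, hg⟩, hu⟩

theorem TI.normTwo (h : TI G) : NormTwo G := fun _ _ _ hx hu hu1 hg => h.norm Nat.prime_two hx hu hu1 hg

/-- The alternating group of degree seven does not have the property. -/
theorem not_normTwo_seven : ¬ NormTwo (alternatingGroup (Fin 7)) := by
  intro h
  let x : alternatingGroup (Fin 7) :=
    ⟨Equiv.swap 0 1 * Equiv.swap 1 2 * Equiv.swap 2 3 * Equiv.swap 4 5, Equiv.Perm.mem_alternatingGroup.2 (by decide)⟩
  let g : alternatingGroup (Fin 7) :=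
    ⟨Equiv.swap 4 5 * Equiv.swap 5 6, Equiv.Perm.mem_alternatingGroup.2 (by decide)⟩
  have hx : orderOf x = 2 ^ (1 + 1) := by
    haveI := Fact.mk Nat.prime_two
    exact orderOf_eq_prime_pow (by decide) (by decide)
  obtain ⟨k, hk⟩ := mem_zpowers_iff.1 (h x (x * x) g ⟨_, hx⟩ (mul_mem (mem_zpowers x) (mem_zpowers x))
    (by decide) (by decide))
  have hc : Commute x (g * x * g⁻¹) := hk ▸ (Commute.refl x).zpow_right k
  exact absurd hc.eq (by decide)

theorem forward [IsSimpleGroup G] (hna : ¬ IsMulCommutative G) (h : TI G) :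
    (∃ (F : Type) (_ : Field F) (_ : Fintype F), 3 < Fintype.card F ∧
      Nonempty (G ≃* Matrix.ProjectiveSpecialLinearGroup (Fin 2) F)) ∨ Cfsg.Spor.IsoJ1 G := by
  classical
  haveI : Fact (Nat.Prime 2) := ⟨Nat.prime_two⟩
  obtain ⟨S⟩ : Nonempty (Sylow 2 G) := inferInstance
  have abelian : (∀ a ∈ S, ∀ b ∈ S, Commute a b) →
      (∃ (F : Type) (_ : Field F) (_ : Fintype F), 3 < Fintype.card F ∧
        Nonempty (G ≃* Matrix.ProjectiveSpecialLinearGroup (Fin 2) F)) ∨ Cfsg.Spor.IsoJ1 G := by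
    intro hab
    have hS : IsMulCommutative (S : Subgroup G) := ⟨⟨fun a b => Subtype.ext (hab a a.2 b b.2).eq⟩⟩
    have hab2 := SylowEight.abTwo_of_sylow S hS
    rcases Walter.walterProp G hna hab2 with ⟨F, i1, i2, ⟨n, hn, hF⟩, he⟩ | ⟨F, i1, i2, -, h5, he⟩ | hj
    · refine Or.inl ⟨F, i1, i2, ?_, he⟩
      rw [hF]
      exact lt_of_lt_of_le (by norm_num) (Nat.pow_le_pow_right two_pos hn)
    · exact Or.inl ⟨F, i1, i2, by omega, he⟩
    · obtain ⟨h8, t, E, E₀, F, iF, iFt, h5, hmod, hh⟩ := hj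
      have hE := Ree.Field.noFieldProp_of_three Ree.Three.threeSpec G t E E₀ F
        ⟨inferInstance, hna, hab2, h8, hh, h5, hmod⟩
      subst hE
      by_cases hbig : 11 ≤ Fintype.card F
      · letI := Fintype.ofFinite G
        letI := Fintype.ofFinite E
        exact (setting_false (⟨inferInstance, hna, Walter.sylow_two_comm hab2, hh, hmod, hbig⟩ : Ree.Setting t E F)
          fun x u g hx hu hu1 hg => h.norm Nat.prime_three hx hu hu1 hg).elim
      · obtain ⟨e⟩ := SylowAb.cent_iso hh (show Fintype.card F = 5 by omega)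
        exact Or.inr (Cfsg.Agent.S1644.result S hS (h8 S) t hh.ord e)
  have dih : (∃ n, 2 ≤ n ∧ Nonempty ((S : Subgroup G) ≃* DihedralGroup n)) →
      (∃ (F : Type) (_ : Field F) (_ : Fintype F), 3 < Fintype.card F ∧
        Nonempty (G ≃* Matrix.ProjectiveSpecialLinearGroup (Fin 2) F)) ∨ Cfsg.Spor.IsoJ1 G := by
    rintro ⟨n, hn, he⟩
    rcases GWD.dihedralProp G S n hn he with ⟨F, i1, i2, -, h5, hiso⟩ | ⟨⟨e⟩⟩
    · exact Or.inl ⟨F, i1, i2, by omega, hiso⟩
    · refine absurd ?_ not_normTwo_seven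
      intro x u g hx hu hu1 hg
      obtain ⟨k, hk⟩ := hx
      obtain ⟨j, hj⟩ := mem_zpowers_iff.1 hu
      obtain ⟨i, hi⟩ := mem_zpowers_iff.1 (h.norm Nat.prime_two (x := e.symm x) (u := e.symm u) (g := e.symm g)
        ⟨k, by rw [MulEquiv.orderOf_eq, hk]⟩ (mem_zpowers_iff.2 ⟨j, by rw [← map_zpow, hj]⟩)
        (fun e' => hu1 (e.symm.injective (e'.trans (map_one _).symm))) (by rw [← map_inv, ← map_mul, ← map_mul, hg]))
      exact mem_zpowers_iff.2 ⟨i, e.symm.injective (by rw [map_zpow, hi, map_mul, map_mul, map_inv])⟩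
  have hn := h.normTwo
  by_cases hex : ∃ d ∈ S, Quad d
  · obtain ⟨x, hx, hxq⟩ := hex
    by_cases htwo : ∃ q ∈ S, Quad q ∧ x * x ≠ q * q
    · obtain ⟨q, hq, hqq, hne⟩ := htwo
      rcases comm_or_split hn S.2 ⟨x, hx, hxq⟩ (uniform_of_two hn S.2 hx hxq hq hqq hne) with hab | ⟨A, P⟩
      · exact abelian hab
      · exact (split_two_false hna S hn P hx hxq hq hqq hne).elim
    · push Not at htwo
      exact dih (dihedral_of_one_square hna hn S hx hxq fun d hd hdq => (htwo d hd hdq).symm)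
  · have hsq : ∀ a ∈ S, a * a = 1 := by
      intro a ha
      by_contra h2
      obtain ⟨i, hi⟩ := exists_quad (two_pow_of_mem S.2 ha) h2
      exact hex ⟨_, pow_mem ha i, hi⟩
    refine abelian fun a ha b hb => ?_
    have hab := inv_eq_of_mul_eq_one_right (hsq _ (mul_mem ha hb))
    rw [mul_inv_rev, inv_eq_of_mul_eq_one_right (hsq a ha), inv_eq_of_mul_eq_one_right (hsq b hb)] at hab
    exact hab.symm

theorem main [IsSimpleGroup G] (hna : ¬ IsMulCommutative G) :
    TI G ↔ ((∃ (F : Type) (_ : Field F) (_ : Fintype F), 3 < Fintype.card F ∧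
      Nonempty (G ≃* Matrix.ProjectiveSpecialLinearGroup (Fin 2) F)) ∨ Cfsg.Spor.IsoJ1 G) := by
  refine ⟨forward hna, ?_⟩
  rintro (⟨F, _, _, -, ⟨e⟩⟩ | hj) H hc hp g
  · exact (commonPower_psl.of_equiv e).ti H hc hp g
  · exact (commonPower_jOne hj).ti H hc hp g

end Cfsg.Lib.TICyclic
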